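import Cfsg.Agent.CosetEnum.Fi24Out17.ScanDefs

/-! Generated: the checks at every point. -/

set_option autoImplicit false
set_option maxRecDepth 100000
set_option Elab.async false

namespace CfsgLib.Fi24Out17

open CfsgLib.CosetEnum

theorem scan0 : allFrom scanAt 0 1024 = true := by
  decide +kernel

theorem scan1024 : allFrom scanAt 1024 1024 = true := by
  decide +kernel

theorem scan2048 : allFrom scanAt 2048 1024 = true := by
  decide +kernel

theorem scan3072 : allFrom scanAt 3072 1024 = true := by
  decide +kernel

theorem scan4096 : allFrom scanAt 4096 1024 = true := by
  decide +kernel

theorem scan5120 : allFrom scanAt 5120 1024 = true := by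
  decide +kernel

theorem scan6144 : allFrom scanAt 6144 1024 = true := by
  decide +kernel

theorem scan7168 : allFrom scanAt 7168 1024 = true := by
  decide +kernel

theorem scan8192 : allFrom scanAt 8192 1024 = true := by
  decide +kernel

theorem scan9216 : allFrom scanAt 9216 1024 = true := by
  decide +kernel

theorem scan10240 : allFrom scanAt 10240 1024 = true := by
  decide +kernel

theorem scan11264 : allFrom scanAt 11264 1024 = true := by
  decide +kernel

theorem scan12288 : allFrom scanAt 12288 1024 = true := by
  decide +kernel

theorem scan13312 : allFrom scanAt 13312 1024 = true := by
  decide +kernel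

theorem scan14336 : allFrom scanAt 14336 1024 = true := by
  decide +kernel

theorem scan15360 : allFrom scanAt 15360 1024 = true := by
  decide +kernel

theorem scan16384 : allFrom scanAt 16384 1024 = true := by
  decide +kernel

theorem scan17408 : allFrom scanAt 17408 1024 = true := by
  decide +kernel

theorem scan18432 : allFrom scanAt 18432 1024 = true := by
  decide +kernel

theorem scan19456 : allFrom scanAt 19456 1024 = true := by
  decide +kernel

end CfsgLib.Fi24Out17
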