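import Cfsg.Agent.CosetEnum.Fi24Out17.ScanDefs

/-! Generated: the checks at every point. -/

set_option autoImplicit false
set_option maxRecDepth 100000
set_option Elab.async false

namespace CfsgLib.Fi24Out17

open CfsgLib.CosetEnum

theorem scan20480 : allFrom scanAt 20480 1024 = true := by
  decide +kernel

theorem scan21504 : allFrom scanAt 21504 1024 = true := by
  decide +kernel

theorem scan22528 : allFrom scanAt 22528 1024 = true := by
  decide +kernel

theorem scan23552 : allFrom scanAt 23552 1024 = true := by
  decide +kernel

theorem scan24576 : allFrom scanAt 24576 1024 = true := by
  decide +kernel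

theorem scan25600 : allFrom scanAt 25600 1024 = true := by
  decide +kernel

theorem scan26624 : allFrom scanAt 26624 1024 = true := by
  decide +kernel

theorem scan27648 : allFrom scanAt 27648 1024 = true := by
  decide +kernel

theorem scan28672 : allFrom scanAt 28672 1024 = true := by
  decide +kernel

theorem scan29696 : allFrom scanAt 29696 1024 = true := by
  decide +kernel

theorem scan30720 : allFrom scanAt 30720 1024 = true := by
  decide +kernel

theorem scan31744 : allFrom scanAt 31744 1024 = true := by
  decide +kernel

theorem scan32768 : allFrom scanAt 32768 1024 = true := by
  decide +kernel

theorem scan33792 : allFrom scanAt 33792 1024 = true := by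
  decide +kernel

theorem scan34816 : allFrom scanAt 34816 1024 = true := by
  decide +kernel

theorem scan35840 : allFrom scanAt 35840 1024 = true := by
  decide +kernel

theorem scan36864 : allFrom scanAt 36864 1024 = true := by
  decide +kernel

theorem scan37888 : allFrom scanAt 37888 1024 = true := by
  decide +kernel

theorem scan38912 : allFrom scanAt 38912 1024 = true := by
  decide +kernel

theorem scan39936 : allFrom scanAt 39936 1024 = true := by
  decide +kernel

end CfsgLib.Fi24Out17
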