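import Cfsg.Agent.CosetEnum.Fi24Out17.ScanDefs

/-! Generated: the checks at every point. -/

set_option autoImplicit false
set_option maxRecDepth 100000
set_option Elab.async false

namespace CfsgLib.Fi24Out17

open CfsgLib.CosetEnum

theorem scan225280 : allFrom scanAt 225280 1024 = true := by
  decide +kernel

theorem scan226304 : allFrom scanAt 226304 1024 = true := by
  decide +kernel

theorem scan227328 : allFrom scanAt 227328 1024 = true := by
  decide +kernel

theorem scan228352 : allFrom scanAt 228352 1024 = true := by
  decide +kernel

theorem scan229376 : allFrom scanAt 229376 1024 = true := by
  decide +kernel

theorem scan230400 : allFrom scanAt 230400 1024 = true := by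
  decide +kernel

theorem scan231424 : allFrom scanAt 231424 1024 = true := by
  decide +kernel

theorem scan232448 : allFrom scanAt 232448 1024 = true := by
  decide +kernel

theorem scan233472 : allFrom scanAt 233472 1024 = true := by
  decide +kernel

theorem scan234496 : allFrom scanAt 234496 1024 = true := by
  decide +kernel

theorem scan235520 : allFrom scanAt 235520 1024 = true := by
  decide +kernel

theorem scan236544 : allFrom scanAt 236544 1024 = true := by
  decide +kernel

theorem scan237568 : allFrom scanAt 237568 1024 = true := by
  decide +kernel

theorem scan238592 : allFrom scanAt 238592 1024 = true := by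
  decide +kernel

theorem scan239616 : allFrom scanAt 239616 1024 = true := by
  decide +kernel

theorem scan240640 : allFrom scanAt 240640 1024 = true := by
  decide +kernel

theorem scan241664 : allFrom scanAt 241664 1024 = true := by
  decide +kernel

theorem scan242688 : allFrom scanAt 242688 1024 = true := by
  decide +kernel

theorem scan243712 : allFrom scanAt 243712 1024 = true := by
  decide +kernel

theorem scan244736 : allFrom scanAt 244736 1024 = true := by
  decide +kernel

end CfsgLib.Fi24Out17
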