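import Cfsg.Agent.CosetEnum.Fi24Out17.ScanDefs

/-! Generated: the checks at every point. -/

set_option autoImplicit false
set_option maxRecDepth 100000
set_option Elab.async false

namespace CfsgLib.Fi24Out17

open CfsgLib.CosetEnum

theorem scan245760 : allFrom scanAt 245760 1024 = true := by
  decide +kernel

theorem scan246784 : allFrom scanAt 246784 1024 = true := by
  decide +kernel

theorem scan247808 : allFrom scanAt 247808 1024 = true := by
  decide +kernel

theorem scan248832 : allFrom scanAt 248832 1024 = true := by
  decide +kernel

theorem scan249856 : allFrom scanAt 249856 1024 = true := by
  decide +kernel

theorem scan250880 : allFrom scanAt 250880 1024 = true := by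
  decide +kernel

theorem scan251904 : allFrom scanAt 251904 1024 = true := by
  decide +kernel

theorem scan252928 : allFrom scanAt 252928 1024 = true := by
  decide +kernel

theorem scan253952 : allFrom scanAt 253952 1024 = true := by
  decide +kernel

theorem scan254976 : allFrom scanAt 254976 1024 = true := by
  decide +kernel

theorem scan256000 : allFrom scanAt 256000 1024 = true := by
  decide +kernel

theorem scan257024 : allFrom scanAt 257024 1024 = true := by
  decide +kernel

theorem scan258048 : allFrom scanAt 258048 1024 = true := by
  decide +kernel

theorem scan259072 : allFrom scanAt 259072 1024 = true := by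
  decide +kernel

theorem scan260096 : allFrom scanAt 260096 1024 = true := by
  decide +kernel

theorem scan261120 : allFrom scanAt 261120 1024 = true := by
  decide +kernel

theorem scan262144 : allFrom scanAt 262144 1024 = true := by
  decide +kernel

theorem scan263168 : allFrom scanAt 263168 1024 = true := by
  decide +kernel

theorem scan264192 : allFrom scanAt 264192 1024 = true := by
  decide +kernel

theorem scan265216 : allFrom scanAt 265216 1024 = true := by
  decide +kernel

end CfsgLib.Fi24Out17
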