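import Cfsg.Agent.CosetEnum.Fi24Out17.ScanDefs

/-! Generated: the checks at every point. -/

set_option autoImplicit false
set_option maxRecDepth 100000
set_option Elab.async false

namespace CfsgLib.Fi24Out17

open CfsgLib.CosetEnum

theorem scan266240 : allFrom scanAt 266240 1024 = true := by
  decide +kernel

theorem scan267264 : allFrom scanAt 267264 1024 = true := by
  decide +kernel

theorem scan268288 : allFrom scanAt 268288 1024 = true := by
  decide +kernel

theorem scan269312 : allFrom scanAt 269312 1024 = true := by
  decide +kernel

theorem scan270336 : allFrom scanAt 270336 1024 = true := by
  decide +kernel

theorem scan271360 : allFrom scanAt 271360 1024 = true := by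
  decide +kernel

theorem scan272384 : allFrom scanAt 272384 1024 = true := by
  decide +kernel

theorem scan273408 : allFrom scanAt 273408 1024 = true := by
  decide +kernel

theorem scan274432 : allFrom scanAt 274432 1024 = true := by
  decide +kernel

theorem scan275456 : allFrom scanAt 275456 1024 = true := by
  decide +kernel

theorem scan276480 : allFrom scanAt 276480 1024 = true := by
  decide +kernel

theorem scan277504 : allFrom scanAt 277504 1024 = true := by
  decide +kernel

theorem scan278528 : allFrom scanAt 278528 1024 = true := by
  decide +kernel

theorem scan279552 : allFrom scanAt 279552 1024 = true := by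
  decide +kernel

theorem scan280576 : allFrom scanAt 280576 1024 = true := by
  decide +kernel

theorem scan281600 : allFrom scanAt 281600 1024 = true := by
  decide +kernel

theorem scan282624 : allFrom scanAt 282624 1024 = true := by
  decide +kernel

theorem scan283648 : allFrom scanAt 283648 1024 = true := by
  decide +kernel

theorem scan284672 : allFrom scanAt 284672 1024 = true := by
  decide +kernel

theorem scan285696 : allFrom scanAt 285696 1024 = true := by
  decide +kernel

end CfsgLib.Fi24Out17
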