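import Cfsg.Agent.CosetEnum.Fi24Out17.ScanDefs

/-! Generated: the checks at every point. -/

set_option autoImplicit false
set_option maxRecDepth 100000
set_option Elab.async false

namespace CfsgLib.Fi24Out17

open CfsgLib.CosetEnum

theorem scan286720 : allFrom scanAt 286720 1024 = true := by
  decide +kernel

theorem scan287744 : allFrom scanAt 287744 1024 = true := by
  decide +kernel

theorem scan288768 : allFrom scanAt 288768 1024 = true := by
  decide +kernel

theorem scan289792 : allFrom scanAt 289792 1024 = true := by
  decide +kernel

theorem scan290816 : allFrom scanAt 290816 1024 = true := by
  decide +kernel

theorem scan291840 : allFrom scanAt 291840 1024 = true := by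
  decide +kernel

theorem scan292864 : allFrom scanAt 292864 1024 = true := by
  decide +kernel

theorem scan293888 : allFrom scanAt 293888 1024 = true := by
  decide +kernel

theorem scan294912 : allFrom scanAt 294912 1024 = true := by
  decide +kernel

theorem scan295936 : allFrom scanAt 295936 1024 = true := by
  decide +kernel

theorem scan296960 : allFrom scanAt 296960 1024 = true := by
  decide +kernel

theorem scan297984 : allFrom scanAt 297984 1024 = true := by
  decide +kernel

theorem scan299008 : allFrom scanAt 299008 1024 = true := by
  decide +kernel

theorem scan300032 : allFrom scanAt 300032 1024 = true := by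
  decide +kernel

theorem scan301056 : allFrom scanAt 301056 1024 = true := by
  decide +kernel

theorem scan302080 : allFrom scanAt 302080 1024 = true := by
  decide +kernel

theorem scan303104 : allFrom scanAt 303104 1024 = true := by
  decide +kernel

theorem scan304128 : allFrom scanAt 304128 1024 = true := by
  decide +kernel

theorem scan305152 : allFrom scanAt 305152 1024 = true := by
  decide +kernel

theorem scan306176 : allFrom scanAt 306176 760 = true := by
  decide +kernel

end CfsgLib.Fi24Out17
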