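import Cfsg.Agent.CosetEnum.Fi24Out17.ScanDefs

/-! Generated: the checks at every point. -/

set_option autoImplicit false
set_option maxRecDepth 100000
set_option Elab.async false

namespace CfsgLib.Fi24Out17

open CfsgLib.CosetEnum

theorem scan40960 : allFrom scanAt 40960 1024 = true := by
  decide +kernel

theorem scan41984 : allFrom scanAt 41984 1024 = true := by
  decide +kernel

theorem scan43008 : allFrom scanAt 43008 1024 = true := by
  decide +kernel

theorem scan44032 : allFrom scanAt 44032 1024 = true := by
  decide +kernel

theorem scan45056 : allFrom scanAt 45056 1024 = true := by
  decide +kernel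

theorem scan46080 : allFrom scanAt 46080 1024 = true := by
  decide +kernel

theorem scan47104 : allFrom scanAt 47104 1024 = true := by
  decide +kernel

theorem scan48128 : allFrom scanAt 48128 1024 = true := by
  decide +kernel

theorem scan49152 : allFrom scanAt 49152 1024 = true := by
  decide +kernel

theorem scan50176 : allFrom scanAt 50176 1024 = true := by
  decide +kernel

theorem scan51200 : allFrom scanAt 51200 1024 = true := by
  decide +kernel

theorem scan52224 : allFrom scanAt 52224 1024 = true := by
  decide +kernel

theorem scan53248 : allFrom scanAt 53248 1024 = true := by
  decide +kernel

theorem scan54272 : allFrom scanAt 54272 1024 = true := by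
  decide +kernel

theorem scan55296 : allFrom scanAt 55296 1024 = true := by
  decide +kernel

theorem scan56320 : allFrom scanAt 56320 1024 = true := by
  decide +kernel

theorem scan57344 : allFrom scanAt 57344 1024 = true := by
  decide +kernel

theorem scan58368 : allFrom scanAt 58368 1024 = true := by
  decide +kernel

theorem scan59392 : allFrom scanAt 59392 1024 = true := by
  decide +kernel

theorem scan60416 : allFrom scanAt 60416 1024 = true := by
  decide +kernel

end CfsgLib.Fi24Out17
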