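import Cfsg.Agent.CosetEnum.Fi24Out17.ScanDefs

/-! Generated: the checks at every point. -/

set_option autoImplicit false
set_option maxRecDepth 100000
set_option Elab.async false

namespace CfsgLib.Fi24Out17

open CfsgLib.CosetEnum

theorem scan61440 : allFrom scanAt 61440 1024 = true := by
  decide +kernel

theorem scan62464 : allFrom scanAt 62464 1024 = true := by
  decide +kernel

theorem scan63488 : allFrom scanAt 63488 1024 = true := by
  decide +kernel

theorem scan64512 : allFrom scanAt 64512 1024 = true := by
  decide +kernel

theorem scan65536 : allFrom scanAt 65536 1024 = true := by
  decide +kernel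

theorem scan66560 : allFrom scanAt 66560 1024 = true := by
  decide +kernel

theorem scan67584 : allFrom scanAt 67584 1024 = true := by
  decide +kernel

theorem scan68608 : allFrom scanAt 68608 1024 = true := by
  decide +kernel

theorem scan69632 : allFrom scanAt 69632 1024 = true := by
  decide +kernel

theorem scan70656 : allFrom scanAt 70656 1024 = true := by
  decide +kernel

theorem scan71680 : allFrom scanAt 71680 1024 = true := by
  decide +kernel

theorem scan72704 : allFrom scanAt 72704 1024 = true := by
  decide +kernel

theorem scan73728 : allFrom scanAt 73728 1024 = true := by
  decide +kernel

theorem scan74752 : allFrom scanAt 74752 1024 = true := by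
  decide +kernel

theorem scan75776 : allFrom scanAt 75776 1024 = true := by
  decide +kernel

theorem scan76800 : allFrom scanAt 76800 1024 = true := by
  decide +kernel

theorem scan77824 : allFrom scanAt 77824 1024 = true := by
  decide +kernel

theorem scan78848 : allFrom scanAt 78848 1024 = true := by
  decide +kernel

theorem scan79872 : allFrom scanAt 79872 1024 = true := by
  decide +kernel

theorem scan80896 : allFrom scanAt 80896 1024 = true := by
  decide +kernel

end CfsgLib.Fi24Out17
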