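import Cfsg.Agent.CosetEnum.Fi24Out17.ScanDefs

/-! Generated: the checks at every point. -/

set_option autoImplicit false
set_option maxRecDepth 100000
set_option Elab.async false

namespace CfsgLib.Fi24Out17

open CfsgLib.CosetEnum

theorem scan81920 : allFrom scanAt 81920 1024 = true := by
  decide +kernel

theorem scan82944 : allFrom scanAt 82944 1024 = true := by
  decide +kernel

theorem scan83968 : allFrom scanAt 83968 1024 = true := by
  decide +kernel

theorem scan84992 : allFrom scanAt 84992 1024 = true := by
  decide +kernel

theorem scan86016 : allFrom scanAt 86016 1024 = true := by
  decide +kernel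

theorem scan87040 : allFrom scanAt 87040 1024 = true := by
  decide +kernel

theorem scan88064 : allFrom scanAt 88064 1024 = true := by
  decide +kernel

theorem scan89088 : allFrom scanAt 89088 1024 = true := by
  decide +kernel

theorem scan90112 : allFrom scanAt 90112 1024 = true := by
  decide +kernel

theorem scan91136 : allFrom scanAt 91136 1024 = true := by
  decide +kernel

theorem scan92160 : allFrom scanAt 92160 1024 = true := by
  decide +kernel

theorem scan93184 : allFrom scanAt 93184 1024 = true := by
  decide +kernel

theorem scan94208 : allFrom scanAt 94208 1024 = true := by
  decide +kernel

theorem scan95232 : allFrom scanAt 95232 1024 = true := by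
  decide +kernel

theorem scan96256 : allFrom scanAt 96256 1024 = true := by
  decide +kernel

theorem scan97280 : allFrom scanAt 97280 1024 = true := by
  decide +kernel

theorem scan98304 : allFrom scanAt 98304 1024 = true := by
  decide +kernel

theorem scan99328 : allFrom scanAt 99328 1024 = true := by
  decide +kernel

theorem scan100352 : allFrom scanAt 100352 1024 = true := by
  decide +kernel

theorem scan101376 : allFrom scanAt 101376 1024 = true := by
  decide +kernel

end CfsgLib.Fi24Out17
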