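import Cfsg.Agent.CosetEnum.Fi24Out17.ScanDefs

/-! Generated: the checks at every point. -/

set_option autoImplicit false
set_option maxRecDepth 100000
set_option Elab.async false

namespace CfsgLib.Fi24Out17

open CfsgLib.CosetEnum

theorem scan102400 : allFrom scanAt 102400 1024 = true := by
  decide +kernel

theorem scan103424 : allFrom scanAt 103424 1024 = true := by
  decide +kernel

theorem scan104448 : allFrom scanAt 104448 1024 = true := by
  decide +kernel

theorem scan105472 : allFrom scanAt 105472 1024 = true := by
  decide +kernel

theorem scan106496 : allFrom scanAt 106496 1024 = true := by
  decide +kernel

theorem scan107520 : allFrom scanAt 107520 1024 = true := by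
  decide +kernel

theorem scan108544 : allFrom scanAt 108544 1024 = true := by
  decide +kernel

theorem scan109568 : allFrom scanAt 109568 1024 = true := by
  decide +kernel

theorem scan110592 : allFrom scanAt 110592 1024 = true := by
  decide +kernel

theorem scan111616 : allFrom scanAt 111616 1024 = true := by
  decide +kernel

theorem scan112640 : allFrom scanAt 112640 1024 = true := by
  decide +kernel

theorem scan113664 : allFrom scanAt 113664 1024 = true := by
  decide +kernel

theorem scan114688 : allFrom scanAt 114688 1024 = true := by
  decide +kernel

theorem scan115712 : allFrom scanAt 115712 1024 = true := by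
  decide +kernel

theorem scan116736 : allFrom scanAt 116736 1024 = true := by
  decide +kernel

theorem scan117760 : allFrom scanAt 117760 1024 = true := by
  decide +kernel

theorem scan118784 : allFrom scanAt 118784 1024 = true := by
  decide +kernel

theorem scan119808 : allFrom scanAt 119808 1024 = true := by
  decide +kernel

theorem scan120832 : allFrom scanAt 120832 1024 = true := by
  decide +kernel

theorem scan121856 : allFrom scanAt 121856 1024 = true := by
  decide +kernel

end CfsgLib.Fi24Out17
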