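import Cfsg.Agent.CosetEnum.Fi24Out17.ScanDefs

/-! Generated: the checks at every point. -/

set_option autoImplicit false
set_option maxRecDepth 100000
set_option Elab.async false

namespace CfsgLib.Fi24Out17

open CfsgLib.CosetEnum

theorem scan122880 : allFrom scanAt 122880 1024 = true := by
  decide +kernel

theorem scan123904 : allFrom scanAt 123904 1024 = true := by
  decide +kernel

theorem scan124928 : allFrom scanAt 124928 1024 = true := by
  decide +kernel

theorem scan125952 : allFrom scanAt 125952 1024 = true := by
  decide +kernel

theorem scan126976 : allFrom scanAt 126976 1024 = true := by
  decide +kernel

theorem scan128000 : allFrom scanAt 128000 1024 = true := by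
  decide +kernel

theorem scan129024 : allFrom scanAt 129024 1024 = true := by
  decide +kernel

theorem scan130048 : allFrom scanAt 130048 1024 = true := by
  decide +kernel

theorem scan131072 : allFrom scanAt 131072 1024 = true := by
  decide +kernel

theorem scan132096 : allFrom scanAt 132096 1024 = true := by
  decide +kernel

theorem scan133120 : allFrom scanAt 133120 1024 = true := by
  decide +kernel

theorem scan134144 : allFrom scanAt 134144 1024 = true := by
  decide +kernel

theorem scan135168 : allFrom scanAt 135168 1024 = true := by
  decide +kernel

theorem scan136192 : allFrom scanAt 136192 1024 = true := by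
  decide +kernel

theorem scan137216 : allFrom scanAt 137216 1024 = true := by
  decide +kernel

theorem scan138240 : allFrom scanAt 138240 1024 = true := by
  decide +kernel

theorem scan139264 : allFrom scanAt 139264 1024 = true := by
  decide +kernel

theorem scan140288 : allFrom scanAt 140288 1024 = true := by
  decide +kernel

theorem scan141312 : allFrom scanAt 141312 1024 = true := by
  decide +kernel

theorem scan142336 : allFrom scanAt 142336 1024 = true := by
  decide +kernel

end CfsgLib.Fi24Out17
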