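import Cfsg.Agent.CosetEnum.Fi24Out17.ScanDefs

/-! Generated: the checks at every point. -/

set_option autoImplicit false
set_option maxRecDepth 100000
set_option Elab.async false

namespace CfsgLib.Fi24Out17

open CfsgLib.CosetEnum

theorem scan143360 : allFrom scanAt 143360 1024 = true := by
  decide +kernel

theorem scan144384 : allFrom scanAt 144384 1024 = true := by
  decide +kernel

theorem scan145408 : allFrom scanAt 145408 1024 = true := by
  decide +kernel

theorem scan146432 : allFrom scanAt 146432 1024 = true := by
  decide +kernel

theorem scan147456 : allFrom scanAt 147456 1024 = true := by
  decide +kernel

theorem scan148480 : allFrom scanAt 148480 1024 = true := by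
  decide +kernel

theorem scan149504 : allFrom scanAt 149504 1024 = true := by
  decide +kernel

theorem scan150528 : allFrom scanAt 150528 1024 = true := by
  decide +kernel

theorem scan151552 : allFrom scanAt 151552 1024 = true := by
  decide +kernel

theorem scan152576 : allFrom scanAt 152576 1024 = true := by
  decide +kernel

theorem scan153600 : allFrom scanAt 153600 1024 = true := by
  decide +kernel

theorem scan154624 : allFrom scanAt 154624 1024 = true := by
  decide +kernel

theorem scan155648 : allFrom scanAt 155648 1024 = true := by
  decide +kernel

theorem scan156672 : allFrom scanAt 156672 1024 = true := by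
  decide +kernel

theorem scan157696 : allFrom scanAt 157696 1024 = true := by
  decide +kernel

theorem scan158720 : allFrom scanAt 158720 1024 = true := by
  decide +kernel

theorem scan159744 : allFrom scanAt 159744 1024 = true := by
  decide +kernel

theorem scan160768 : allFrom scanAt 160768 1024 = true := by
  decide +kernel

theorem scan161792 : allFrom scanAt 161792 1024 = true := by
  decide +kernel

theorem scan162816 : allFrom scanAt 162816 1024 = true := by
  decide +kernel

end CfsgLib.Fi24Out17
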