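import Cfsg.Agent.CosetEnum.Fi24Out17.ScanDefs

/-! Generated: the checks at every point. -/

set_option autoImplicit false
set_option maxRecDepth 100000
set_option Elab.async false

namespace CfsgLib.Fi24Out17

open CfsgLib.CosetEnum

theorem scan163840 : allFrom scanAt 163840 1024 = true := by
  decide +kernel

theorem scan164864 : allFrom scanAt 164864 1024 = true := by
  decide +kernel

theorem scan165888 : allFrom scanAt 165888 1024 = true := by
  decide +kernel

theorem scan166912 : allFrom scanAt 166912 1024 = true := by
  decide +kernel

theorem scan167936 : allFrom scanAt 167936 1024 = true := by
  decide +kernel

theorem scan168960 : allFrom scanAt 168960 1024 = true := by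
  decide +kernel

theorem scan169984 : allFrom scanAt 169984 1024 = true := by
  decide +kernel

theorem scan171008 : allFrom scanAt 171008 1024 = true := by
  decide +kernel

theorem scan172032 : allFrom scanAt 172032 1024 = true := by
  decide +kernel

theorem scan173056 : allFrom scanAt 173056 1024 = true := by
  decide +kernel

theorem scan174080 : allFrom scanAt 174080 1024 = true := by
  decide +kernel

theorem scan175104 : allFrom scanAt 175104 1024 = true := by
  decide +kernel

theorem scan176128 : allFrom scanAt 176128 1024 = true := by
  decide +kernel

theorem scan177152 : allFrom scanAt 177152 1024 = true := by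
  decide +kernel

theorem scan178176 : allFrom scanAt 178176 1024 = true := by
  decide +kernel

theorem scan179200 : allFrom scanAt 179200 1024 = true := by
  decide +kernel

theorem scan180224 : allFrom scanAt 180224 1024 = true := by
  decide +kernel

theorem scan181248 : allFrom scanAt 181248 1024 = true := by
  decide +kernel

theorem scan182272 : allFrom scanAt 182272 1024 = true := by
  decide +kernel

theorem scan183296 : allFrom scanAt 183296 1024 = true := by
  decide +kernel

end CfsgLib.Fi24Out17
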