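import Cfsg.Agent.CosetEnum.Fi24Out17.ScanDefs

/-! Generated: the checks at every point. -/

set_option autoImplicit false
set_option maxRecDepth 100000
set_option Elab.async false

namespace CfsgLib.Fi24Out17

open CfsgLib.CosetEnum

theorem scan184320 : allFrom scanAt 184320 1024 = true := by
  decide +kernel

theorem scan185344 : allFrom scanAt 185344 1024 = true := by
  decide +kernel

theorem scan186368 : allFrom scanAt 186368 1024 = true := by
  decide +kernel

theorem scan187392 : allFrom scanAt 187392 1024 = true := by
  decide +kernel

theorem scan188416 : allFrom scanAt 188416 1024 = true := by
  decide +kernel

theorem scan189440 : allFrom scanAt 189440 1024 = true := by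
  decide +kernel

theorem scan190464 : allFrom scanAt 190464 1024 = true := by
  decide +kernel

theorem scan191488 : allFrom scanAt 191488 1024 = true := by
  decide +kernel

theorem scan192512 : allFrom scanAt 192512 1024 = true := by
  decide +kernel

theorem scan193536 : allFrom scanAt 193536 1024 = true := by
  decide +kernel

theorem scan194560 : allFrom scanAt 194560 1024 = true := by
  decide +kernel

theorem scan195584 : allFrom scanAt 195584 1024 = true := by
  decide +kernel

theorem scan196608 : allFrom scanAt 196608 1024 = true := by
  decide +kernel

theorem scan197632 : allFrom scanAt 197632 1024 = true := by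
  decide +kernel

theorem scan198656 : allFrom scanAt 198656 1024 = true := by
  decide +kernel

theorem scan199680 : allFrom scanAt 199680 1024 = true := by
  decide +kernel

theorem scan200704 : allFrom scanAt 200704 1024 = true := by
  decide +kernel

theorem scan201728 : allFrom scanAt 201728 1024 = true := by
  decide +kernel

theorem scan202752 : allFrom scanAt 202752 1024 = true := by
  decide +kernel

theorem scan203776 : allFrom scanAt 203776 1024 = true := by
  decide +kernel

end CfsgLib.Fi24Out17
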