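import Cfsg.Agent.CosetEnum.Fi24Out17.ScanDefs

/-! Generated: the checks at every point. -/

set_option autoImplicit false
set_option maxRecDepth 100000
set_option Elab.async false

namespace CfsgLib.Fi24Out17

open CfsgLib.CosetEnum

theorem scan204800 : allFrom scanAt 204800 1024 = true := by
  decide +kernel

theorem scan205824 : allFrom scanAt 205824 1024 = true := by
  decide +kernel

theorem scan206848 : allFrom scanAt 206848 1024 = true := by
  decide +kernel

theorem scan207872 : allFrom scanAt 207872 1024 = true := by
  decide +kernel

theorem scan208896 : allFrom scanAt 208896 1024 = true := by
  decide +kernel

theorem scan209920 : allFrom scanAt 209920 1024 = true := by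
  decide +kernel

theorem scan210944 : allFrom scanAt 210944 1024 = true := by
  decide +kernel

theorem scan211968 : allFrom scanAt 211968 1024 = true := by
  decide +kernel

theorem scan212992 : allFrom scanAt 212992 1024 = true := by
  decide +kernel

theorem scan214016 : allFrom scanAt 214016 1024 = true := by
  decide +kernel

theorem scan215040 : allFrom scanAt 215040 1024 = true := by
  decide +kernel

theorem scan216064 : allFrom scanAt 216064 1024 = true := by
  decide +kernel

theorem scan217088 : allFrom scanAt 217088 1024 = true := by
  decide +kernel

theorem scan218112 : allFrom scanAt 218112 1024 = true := by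
  decide +kernel

theorem scan219136 : allFrom scanAt 219136 1024 = true := by
  decide +kernel

theorem scan220160 : allFrom scanAt 220160 1024 = true := by
  decide +kernel

theorem scan221184 : allFrom scanAt 221184 1024 = true := by
  decide +kernel

theorem scan222208 : allFrom scanAt 222208 1024 = true := by
  decide +kernel

theorem scan223232 : allFrom scanAt 223232 1024 = true := by
  decide +kernel

theorem scan224256 : allFrom scanAt 224256 1024 = true := by
  decide +kernel

end CfsgLib.Fi24Out17
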